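import Groth.Agent.H9Ram.InertiaEtale
import Groth.Agent.H7Flat.FlatTransfer
import Mathlib.RingTheory.RamificationInertia.Basic

/-!
Finite extensions of a complete discrete valuation ring.
-/

set_option autoImplicit false
set_option linter.style.haveILetI false
set_option linter.unusedSectionVars false

universe u

open IsLocalRing UniqueFactorizationMonoid

namespace Groth.Agent.H02CA.DVRExt

variable (A B : Type u) [CommRing A] [IsDomain A] [IsDiscreteValuationRing A]
  [IsAdicComplete (maximalIdeal A) A] [CommRing B] [IsDedekindDomain B] [Algebra A B] [Module.Finite A B]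
  [Module.IsTorsionFree A B]

theorem henselian_base : HenselianLocalRing A :=
  { is_henselian := fun f hf a₀ h₁ h₂ =>
      HenselianRing.is_henselian (I := maximalIdeal A) f hf a₀ h₁ (h₂.map _) }

include A in
theorem isLocalRing : IsLocalRing B :=
  haveI := henselian_base A
  H9Ram.isLocalRing_of_finite_of_henselian (R := A)

variable [IsLocalRing B]

theorem comap_max : (maximalIdeal B).comap (algebraMap A B) = maximalIdeal A := by
  haveI : Algebra.IsIntegral A B := Algebra.IsIntegral.of_finite A B
  exact eq_maximalIdeal (Ideal.isMaximal_comap_of_isIntegral_of_isMaximal _)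

theorem liesOver : (maximalIdeal B).LiesOver (maximalIdeal A) := ⟨(comap_max A B).symm⟩

theorem isLocalHom : IsLocalHom (algebraMap A B) :=
  ((local_hom_TFAE _).out 4 0).mp (comap_max A B)

include A in
theorem henselian : HenselianLocalRing B :=
  haveI := henselian_base A
  haveI := isLocalHom A B
  H7Flat.FlatTransfer.henselianLocalRing_of_finite A B

theorem map_max_ne_bot : (maximalIdeal A).map (algebraMap A B) ≠ ⊥ :=
  (Ideal.map_eq_bot_iff_of_injective (FaithfulSMul.algebraMap_injective A B)).not.mpr
    (IsDiscreteValuationRing.not_a_field A)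

theorem map_max_le : (maximalIdeal A).map (algebraMap A B) ≤ maximalIdeal B :=
  Ideal.map_le_iff_le_comap.2 (comap_max A B).ge

include A in
theorem max_ne_bot : maximalIdeal B ≠ ⊥ := fun h =>
  map_max_ne_bot A B (le_bot_iff.1 (h ▸ map_max_le A B))

theorem eq_max_pow {I : Ideal B} (hI : ¬ I = ⊥) :
    I = maximalIdeal B ^ (normalizedFactors I).count (maximalIdeal B) := by
  classical
  conv_lhs => rw [← associated_iff_eq.1 (prod_normalizedFactors hI)]
  refine Multiset.prod_eq_pow_single _ fun Q hne hQ => absurd ?_ hne
  exact eq_maximalIdeal ((Ideal.isPrime_of_prime (prime_of_normalized_factor Q hQ)).isMaximal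
    (prime_of_normalized_factor Q hQ).ne_zero)

theorem map_max_eq : (maximalIdeal A).map (algebraMap A B) =
    maximalIdeal B ^ (maximalIdeal B).ramificationIdx A := by
  classical
  haveI := liesOver A B
  rw [Ideal.IsDedekindDomain.ramificationIdx_eq_normalizedFactors_count (maximalIdeal A) _
    (map_max_ne_bot A B)]
  exact eq_max_pow B (map_max_ne_bot A B)

theorem finrank_eq : Module.finrank A B =
    (maximalIdeal B).ramificationIdx A * (maximalIdeal B).inertiaDeg A := by
  classical
  letI : Fintype ((maximalIdeal A).primesOver B) := Fintype.ofFinite _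
  letI : Unique ((maximalIdeal A).primesOver B) :=
    { default := ⟨maximalIdeal B, inferInstance, liesOver A B⟩
      uniq := fun Q => Subtype.ext (eq_maximalIdeal (Q.2.1.isMaximal fun h0 =>
        IsDiscreteValuationRing.not_a_field A (by
          rw [Q.2.2.over, h0]
          exact Ideal.comap_bot_of_injective _ (FaithfulSMul.algebraMap_injective A B)))) }
  rw [← Ideal.sum_ramification_inertia_eq_finrank (maximalIdeal A) B, Fintype.sum_unique]
  rfl

theorem residue_surjective_of_totally_ramified
    (h : (maximalIdeal B).ramificationIdx A = Module.finrank A B) (b : B) :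
    ∃ a : A, algebraMap A B a - b ∈ maximalIdeal B := by
  haveI := liesOver A B
  letI : Field (A ⧸ maximalIdeal A) := Ideal.Quotient.field _
  have hn : 0 < Module.finrank A B := Module.finrank_pos
  have hf : (maximalIdeal B).inertiaDeg A = 1 := by
    have e := finrank_eq A B
    rw [h] at e
    exact Nat.eq_of_mul_eq_mul_left hn (by rw [mul_one]; exact e.symm)
  rw [Ideal.inertiaDeg_eq_of_isMaximal (maximalIdeal A)] at hf
  obtain ⟨c, hc⟩ := (finrank_eq_one_iff_of_nonzero' (1 : B ⧸ maximalIdeal B) one_ne_zero).mp hf
    (Ideal.Quotient.mk _ b)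
  obtain ⟨a, rfl⟩ := Ideal.Quotient.mk_surjective c
  refine ⟨a, Ideal.Quotient.eq.1 ?_⟩
  rw [← hc, Algebra.smul_def, mul_one]
  rfl

end Groth.Agent.H02CA.DVRExt
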